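import Cfsg.Agent.H597.L2Aut
import Cfsg.Agent.H672.SL2Graph
import Cfsg.Agent.H663.GmnPslA
import Cfsg.Agent.S2299
import Cfsg.Agent.FastGrp
import Cfsg.Agent.Prune
set_option linter.all false

section
prune_inst 0x7f00000000000000000000000000000000000000000000000000000000000000000000000000000000000000000000000000000000000000000000000000000000000000000000000000000000000000003fffffffffffffffffffffffffffbeffbdfbfeffff

-- part: H597/L2Char
section
set_option linter.all false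
open scoped Cfsg.Agent.FastGrp

/-!
# Characters of `PSL₂(F)`, `F` odd, and the automorphisms (helper597, for S4898)

* `inv_pow` : an automorphism with field part `a ↦ a ^ κ` moves the class of `y` to that of `y ^ κ`;
* `exists_R`, `exists_X` : characters of degree `q ± 1` fixed by few automorphisms;
* `exists_half` : a character of odd degree `(q ± 1) / 2`, moved by diagonal automorphisms.
-/

set_option autoImplicit false
set_option linter.unusedSectionVars false

namespace Cfsg.Agent.H597.L2Char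

open Matrix Cfsg Cfsg.Agent.Characters.Core Cfsg.Agent.H984.SLTwo
open Cfsg.Agent.Blocks.Basic (charDegree_of_eq irr_one_eq_charDegree charDegree_pos)
open Cfsg.Agent.ClassicalGeometry.AutPSL.Root (pr pr_surjective pr_eq_one_iff)
open Cfsg.Agent.ClassicalGeometry.AutPSL.Auto (cj fld lift lift_pr coe_cj coe_fld_apply)

/-- A linear character of half order, trivial on the involution. -/
theorem exists_hom {C : Type*} [Group C] [Finite C] [hC : IsCyclic C] {m : ℕ} (hm : 0 < m)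
    (hcard : Nat.card C = 2 * m) {z : C} (hz : z * z = 1) : ∃ (θ : C →* ℂˣ) (γ : C),
      (∀ c : C, c ∈ Subgroup.zpowers γ) ∧ θ z = 1 ∧ orderOf (θ γ) = m := by
  obtain ⟨γ, hγ⟩ := IsCyclic.exists_generator (α := C)
  have hord : orderOf γ = Nat.card C := orderOf_eq_card_of_forall_mem_zpowers hγ
  have hn : Nat.card C ≠ 0 := by omega
  obtain ⟨ζ, hζ⟩ : ∃ ζ : ℂˣ, orderOf ζ = Nat.card C := by
    have h1 := Complex.isPrimitiveRoot_exp (Nat.card C) hn
    obtain ⟨u, hu⟩ := h1.isUnit hn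
    refine ⟨u, ?_⟩
    rw [← orderOf_units, hu]
    exact h1.eq_orderOf.symm
  have hdvd : orderOf ζ ∣ orderOf γ := by rw [hζ, hord]
  have hgen := monoidHomOfForallMemZpowers_apply_gen hγ hdvd
  set ψ := monoidHomOfForallMemZpowers hγ hdvd with hψ
  refine ⟨ψ ^ 2, γ, hγ, ?_, ?_⟩
  · rw [MonoidHom.pow_apply, ← map_pow, sq, hz, map_one]
  · rw [MonoidHom.pow_apply, hgen, orderOf_pow' ζ two_ne_zero, hζ, hcard]
    rw [Nat.gcd_eq_right (dvd_mul_right 2 m), Nat.mul_div_cancel_left _ (by norm_num)]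

theorem dvd_of_add_inv {ζ : ℂˣ} {k m : ℕ} (hk : 0 < k) (hord : orderOf ζ = m)
    (h : ((ζ ^ k : ℂˣ) : ℂ) + ((ζ ^ k)⁻¹ : ℂˣ) = ζ + (ζ⁻¹ : ℂˣ)) : m ∣ k - 1 ∨ m ∣ k + 1 := by
  have h0 : (ζ : ℂ) ≠ 0 := ζ.ne_zero
  have h1 : ((ζ : ℂ) ^ k - ζ) * (1 - ((ζ : ℂ) ^ (k + 1))⁻¹) = 0 := by
    rw [Units.val_inv_eq_inv_val, Units.val_inv_eq_inv_val, Units.val_pow_eq_pow_val] at h
    have h2 : (ζ : ℂ) ^ k ≠ 0 := pow_ne_zero _ h0
    rw [pow_succ, mul_inv]
    have h3 : ((ζ : ℂ) ^ k - ζ) * (1 - ((ζ : ℂ) ^ k)⁻¹ * (ζ : ℂ)⁻¹) =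
        ((ζ : ℂ) ^ k + ((ζ : ℂ) ^ k)⁻¹) - (ζ + (ζ : ℂ)⁻¹) := by
      field_simp
      ring
    rw [h3, h, sub_self]
  rcases mul_eq_zero.1 h1 with h2 | h2
  · left
    rw [← hord]
    apply orderOf_dvd_of_pow_eq_one
    have h3 : ζ ^ k = ζ := Units.ext (by rw [Units.val_pow_eq_pow_val]; exact sub_eq_zero.1 h2)
    have h4 : ζ ^ (k - 1) * ζ = 1 * ζ := by
      rw [← pow_succ, Nat.sub_add_cancel hk, h3, one_mul]
    exact mul_right_cancel h4
  · right
    rw [← hord]
    apply orderOf_dvd_of_pow_eq_one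
    apply Units.ext
    rw [Units.val_pow_eq_pow_val, Units.val_one]
    have h3 : ((ζ : ℂ) ^ (k + 1))⁻¹ = 1 := (sub_eq_zero.1 h2).symm
    exact inv_eq_one.1 h3

section

variable {F : Type*} [Field F] [Fintype F]

local notation "PSL" => Matrix.ProjectiveSpecialLinearGroup (Fin 2) F
local notation "SL" => Matrix.SpecialLinearGroup (Fin 2) F
local notation "M₂" => Matrix (Fin 2) (Fin 2) F

theorem add_inv_eq (y : SL) : (y : M₂) + ((y⁻¹ : SL) : M₂) = tr (y : M₂) • (1 : M₂) := by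
  rw [Matrix.SpecialLinearGroup.coe_inv, Matrix.adjugate_fin_two]
  unfold tr
  ext i j
  fin_cases i <;> fin_cases j <;> simp [add_comm]

theorem tr_pow {p : ℕ} [Fact p.Prime] [CharP F p] (y : SL) (i : ℕ) :
    tr ((y ^ p ^ i : SL) : M₂) = tr (y : M₂) ^ p ^ i := by
  have h1 := add_inv_eq y
  have h2 := add_inv_eq (y ^ p ^ i)
  have hc : Commute (y : M₂) ((y⁻¹ : SL) : M₂) := by
    unfold Commute SemiconjBy
    rw [← Matrix.SpecialLinearGroup.coe_mul, ← Matrix.SpecialLinearGroup.coe_mul, mul_inv_cancel,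
      inv_mul_cancel]
  have h3 := add_pow_char_pow_of_commute (p := p) (n := i) hc
  rw [h1, ← Matrix.SpecialLinearGroup.coe_pow, ← Matrix.SpecialLinearGroup.coe_pow, inv_pow, h2,
    smul_pow, one_pow] at h3
  have h4 := congrFun (congrFun h3 0) 0
  simpa using h4.symm

theorem NS_of_tr {y : SL} (h : tr (y : M₂) ^ 2 ≠ 4) : NS (y : M₂) := by
  classical
  by_contra hn
  apply h
  rcases scalar_cases hn with h1 | h1
  · rw [h1, tr_upp inv_one]
    simp
    norm_num
  · rw [h1, tr_upp neg_one_inv]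
    simp only [_root_.Units.val_neg, _root_.Units.val_one, _root_.mul_neg, _root_.mul_one, _root_.even_two, _root_.Even.neg_pow]
    norm_num

theorem tr_cj_fld (A : GL (Fin 2) F) (σ : F ≃+* F) (y : SL) :
    tr ((cj A * fld σ : MulAut SL) y : M₂) = σ (tr (y : M₂)) := by
  have h1 : ∀ g : M₂, tr g = Matrix.trace g := by
    intro g
    rw [Matrix.trace_fin_two]
    rfl
  rw [MulAut.mul_apply, coe_cj, h1, Matrix.trace_mul_comm, ← Matrix.mul_assoc, ← Units.val_mul,
    inv_mul_cancel, Units.val_one, Matrix.one_mul, ← h1]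
  unfold tr
  rw [coe_fld_apply, coe_fld_apply, map_add]

/-- The invariance under an automorphism with field part `a ↦ a ^ κ`. -/
theorem inv_pow {p : ℕ} [Fact p.Prime] [CharP F p] {A : GL (Fin 2) F} {σ : F ≃+* F} {i : ℕ}
    (hσ : ∀ a, σ a = a ^ p ^ i) {θ : PSL → ℂ} (hcl : IsClassFunction PSL θ)
    (hinv : ∀ s, θ ((lift (cj A * fld σ) : MulAut PSL) s) = θ s) {y : SL}
    (hy : tr (y : M₂) ^ 2 ≠ 4) : θ (pr (y ^ p ^ i)) = θ (pr y) := by
  classical
  rw [← hinv (pr y), lift_pr]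
  have h4 : σ 4 = 4 := map_ofNat σ 4
  have htr : tr ((y ^ p ^ i : SL) : M₂) ^ 2 ≠ 4 := by
    rw [tr_pow, ← hσ, ← map_pow, ← h4]
    exact fun h => hy (σ.injective h)
  have ht : tr ((y ^ p ^ i : SL) : M₂) = tr ((cj A * fld σ : MulAut SL) y : M₂) := by
    rw [tr_cj_fld, hσ, tr_pow]
  have hc := isConj_of_tr (NS_of_tr htr) (NS_of_tr (by rw [← ht]; exact htr)) ht (Or.inr htr)
  obtain ⟨b, hb⟩ := isConj_iff.1 hc
  rw [← hb, map_mul, map_mul, map_inv, hcl]

/-- Descent to `PSL₂`. -/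
theorem exists_descent [DecidableEq F] {χ : SL → ℂ} (hχ : IsIrrCharacter SL χ) (h : χ z0 = χ 1) :
    ∃ θ : PSL → ℂ, IsIrrCharacter PSL θ ∧ ∀ g : SL, θ (pr g) = χ g :=
  Cfsg.Agent.OddOrderCharacters.PF9.Reducible.exists_of_surjective
    pr pr_surjective hχ (by
      intro g hg
      have hg' : g ∈ Subgroup.center SL := (pr_eq_one_iff g).1 hg
      rcases Cfsg.Agent.H672.SL2Graph.mem_center_cases hg' with rfl | rfl
      · rfl
      · exact h)

/-- A character of degree `q + 1` with small inertia group. -/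
theorem exists_R {p : ℕ} [Fact p.Prime] [CharP F p] {m : ℕ} (hm : 2 < m)
    (hq : Fintype.card F = 2 * m + 1) : ∃ θ : PSL → ℂ, IsIrrCharacter PSL θ ∧
      charDegree θ = 2 * m + 2 ∧ ∀ (A : GL (Fin 2) F) (σ : F ≃+* F) (i : ℕ),
        (∀ a, σ a = a ^ p ^ i) → (∀ s, θ ((lift (cj A * fld σ) : MulAut PSL) s) = θ s) →
          m ∣ p ^ i - 1 ∨ m ∣ p ^ i + 1 := by
  classical
  have hcardu : Nat.card Fˣ = 2 * m := by
    rw [Nat.card_units, Nat.card_eq_fintype_card, hq]; omega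
  obtain ⟨θ, γ, hγ, h3, h4⟩ := exists_hom (C := Fˣ) (m := m) (by omega) hcardu (z := -1) (by simp)
  set α : MulChar F ℂ := MulChar.ofUnitHom θ with hα
  have hαu : ∀ a : Fˣ, α a = θ a := fun a => by rw [hα, MulChar.ofUnitHom_coe]
  have hne : ¬ α = α⁻¹ := by
    intro h
    have h5 : θ γ ^ 2 = 1 := by
      apply Units.ext
      have h5 : α γ = α⁻¹ γ := by rw [← h]
      rw [MulChar.inv_apply_eq_inv', hαu] at h5
      rw [sq]
      have h6 : (θ γ : ℂ) * θ γ = 1 := by
        nth_rw 2 [h5]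
        exact mul_inv_cancel₀ (Units.ne_zero _)
      push_cast
      exact h6
    have h6 := Nat.le_of_dvd (by norm_num) (orderOf_dvd_of_pow_eq_one h5)
    omega
  have hirr : IsIrrCharacter SL (R α) := by
    apply isIrr_of_classInner_self (isCharacter_R α)
    rw [classInner_R_R, if_pos rfl, if_neg hne, add_zero]
  have hα1 : α (-1) = 1 := by
    have := hαu (-1)
    rw [h3, Units.val_neg, Units.val_one] at this
    rw [this, Units.val_one]
  have hR1 : (R α : SL → ℂ) 1 = ((2 * m + 2 : ℕ) : ℂ) := by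
    have h := R_upp_zero α (inv_one : (1 : Fˣ)⁻¹ = 1)
    rw [upp_one_zero, Units.val_one, map_one, hq, mul_one] at h
    rw [h]
    push_cast
    ring
  have hRz : (R α : SL → ℂ) z0 = ((2 * m + 2 : ℕ) : ℂ) := by
    have h := R_upp_zero α (neg_one_inv (F := F))
    rw [Units.val_neg, Units.val_one, hα1, hq, mul_one] at h
    rw [show (z0 : SL) = upp (-1) 0 from rfl, h]
    push_cast
    ring
  obtain ⟨χ, hχ, hχR⟩ := exists_descent hirr (hRz.trans hR1.symm)
  refine ⟨χ, hχ, ?_, ?_⟩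
  · apply charDegree_of_eq
    rw [← hR1, ← hχR 1, map_one]
  · intro A σ i hσ hinv
    have hp : 0 < p ^ i := pow_pos (Fact.out : p.Prime).pos _
    have hinvne : ∀ u : Fˣ, tr ((upp u 0 : SL) : M₂) ^ 2 ≠ 4 → u⁻¹ ≠ u := by
      intro u hu h
      apply hu
      rw [tr_upp h, mul_pow]
      have h5 : (u : F) * u = 1 := by
        have := mul_inv_cancel u
        rw [h] at this
        rw [← Units.val_mul, this, Units.val_one]
      rw [sq (u : F), h5]
      norm_num
    have hγ1 : γ⁻¹ ≠ γ := by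
      intro h
      have h5 : γ ^ 2 = 1 := by
        rw [sq]
        nth_rw 1 [← h]
        rw [inv_mul_cancel]
      have h6 : orderOf γ = 2 * m := by
        rw [← hcardu]
        exact orderOf_eq_card_of_forall_mem_zpowers hγ
      have h7 := Nat.le_of_dvd (by norm_num) (orderOf_dvd_of_pow_eq_one h5)
      omega
    have htr : tr ((upp γ 0 : SL) : M₂) ^ 2 ≠ 4 := by
      intro h
      unfold tr at h
      rw [coe_upp] at h
      simp only [Matrix.of_apply, Matrix.cons_val', Matrix.cons_val_zero,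
        Matrix.cons_val_one, Matrix.cons_val_fin_one] at h
      apply hγ1
      apply Units.ext
      have h5 : (γ : F) * ((γ⁻¹ : Fˣ) : F) = 1 := by rw [← Units.val_mul, mul_inv_cancel, Units.val_one]
      have h6 : (((γ⁻¹ : Fˣ) : F) - γ) ^ 2 = 0 := by linear_combination h - 4 * h5
      exact sub_eq_zero.1 (pow_eq_zero_iff (two_ne_zero)|>.1 h6)
    have hpow : (upp γ 0 : SL) ^ p ^ i = upp (γ ^ p ^ i) 0 := by
      have hk : ∀ k : ℕ, (upp γ 0 : SL) ^ k = upp (γ ^ k) 0 := by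
        intro k
        induction k with
        | zero => rw [pow_zero, pow_zero, upp_one_zero]
        | succ k ih =>
          rw [pow_succ, ih, pow_succ]
          apply Matrix.SpecialLinearGroup.ext
          intro i j
          rw [Matrix.SpecialLinearGroup.coe_mul, coe_upp, coe_upp, coe_upp]
          (revert i j; simp only [Matrix.mul_apply, mul_comm, _root_.Fin.forall_fin_succ, _root_.Units.val_pow_eq_pow_val, _root_.Units.val_inv_eq_inv_val, _root_.Matrix.of_apply, _root_.Matrix.cons_val', _root_.Matrix.cons_val_fin_one, _root_.Fin.sum_univ_two, Fin.isValue, _root_.Matrix.cons_val_zero, _root_.Matrix.cons_val_one, _root_.Units.val_mul, _root_.mul_inv_rev, _root_.MulZeroClass.zero_mul, _root_.add_zero, _root_.Matrix.cons_val_succ, _root_.zero_add, _root_.forall_const, _root_.MulZeroClass.mul_zero, _root_.and_self, _root_.implies_true])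
      exact hk _
    have h6 := inv_pow hσ (isIrr_isClassFunction hχ) hinv htr
    have h7 : (γ ^ p ^ i)⁻¹ ≠ γ ^ p ^ i := by
      apply hinvne
      rw [← hpow, tr_pow, ← hσ, ← map_pow, ← map_ofNat σ 4]
      exact fun h => htr (σ.injective h)
    rw [hχR, hχR, hpow, R_upp_split α h7, R_upp_split α hγ1, hαu, hαu, hαu, hαu, map_inv, map_inv,
      map_pow] at h6
    exact dvd_of_add_inv hp h4 h6

/-- A character of degree `q - 1` with small inertia group. -/
theorem exists_X {p : ℕ} [Fact p.Prime] [CharP F p] {m : ℕ} (hm : 2 ≤ m)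
    (hq : Fintype.card F = 2 * m + 1) : ∃ θ : PSL → ℂ, IsIrrCharacter PSL θ ∧
      charDegree θ = 2 * m ∧ ∀ (A : GL (Fin 2) F) (σ : F ≃+* F) (i : ℕ),
        (∀ a, σ a = a ^ p ^ i) → (∀ s, θ ((lift (cj A * fld σ) : MulAut PSL) s) = θ s) →
          m + 1 ∣ p ^ i - 1 ∨ m + 1 ∣ p ^ i + 1 := by
  classical
  have h2 : ringChar F ≠ 2 := ringChar_ne_two_of_odd (by rw [hq]; exact ⟨m, rfl⟩)
  obtain ⟨g, hg⟩ := exists_ell (F := F)
  have : IsCyclic (Subgroup.centralizer ({g} : Set SL)) := isCyclic_cent g hg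
  have hcardC : Nat.card (Subgroup.centralizer ({g} : Set SL)) = 2 * (m + 1) := by
    rw [card_cent_ell g hg, hq]; ring
  obtain ⟨θ, γ, hγ, h3, h4⟩ := exists_hom (C := Subgroup.centralizer ({g} : Set SL)) (m := m + 1)
    (by omega) hcardC (z := ⟨z0, z0_mem g⟩) (Subtype.ext z0_mul_self)
  have hone : (1 : MulChar F ℂ) (-1) = 1 := MulChar.one_apply (IsUnit.neg isUnit_one)
  have hpar : (1 : MulChar F ℂ) (-1) = (θ ⟨z0, z0_mem g⟩ : ℂ) := by
    rw [h3, Units.val_one]; exact hone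
  have hθ2 : θ ^ 2 ≠ 1 := by
    intro h
    have h5 : θ γ ^ 2 = 1 := by
      rw [← MonoidHom.pow_apply, h, MonoidHom.one_apply]
    have h6 := Nat.le_of_dvd (by norm_num) (orderOf_dvd_of_pow_eq_one h5)
    omega
  have hirr := isIrr_X h2 hg hpar hθ2
  have hX1 : (X θ (1 : MulChar F ℂ) : SL → ℂ) 1 = ((2 * m : ℕ) : ℂ) := by
    rw [X_one hg, hq]; push_cast; ring
  have hXz : (X θ (1 : MulChar F ℂ) : SL → ℂ) z0 = ((2 * m : ℕ) : ℂ) := by
    rw [X_z0 hg hpar, hone, hq]; push_cast; ring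
  obtain ⟨χ, hχ, hχX⟩ := exists_descent hirr (hXz.trans hX1.symm)
  refine ⟨χ, hχ, ?_, ?_⟩
  · apply charDegree_of_eq
    rw [← hX1, ← hχX 1, map_one]
  · intro A σ i hσ hinv
    have hp : 0 < p ^ i := pow_pos (Fact.out : p.Prime).pos _
    have hNS : NS ((γ : SL) : M₂) := by
      by_contra hn
      have h5 := comm_of_not_NS hn
      -- then `g` is central
      obtain ⟨k, hk⟩ := Subgroup.mem_zpowers_iff.1 (hγ ⟨g, self_mem_cent g⟩)
      have h6 : (γ : SL) ^ k = g := congrArg Subtype.val hk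
      have h7 : (γ : SL) ∈ Subgroup.center SL := by
        rw [Subgroup.mem_center_iff]
        intro x
        have := h5 x
        rw [mul_assoc, inv_mul_eq_iff_eq_mul] at this
        exact this.symm
      have h8 : g ∈ Subgroup.center SL := by
        rw [← h6]
        exact Subgroup.zpow_mem _ h7 _
      exact not_NS_of_mem_center h8 hg.NS
    have hEll : Ell ((γ : SL) : M₂) := ell_of_mem_cent hg γ.2 hNS
    have htr : tr ((γ : SL) : M₂) ^ 2 ≠ 4 := hEll.tr_ne.resolve_right h2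
    have h6 := inv_pow hσ (isIrr_isClassFunction hχ) hinv htr
    have h7 : NS (((γ : SL) ^ p ^ i : SL) : M₂) := by
      apply NS_of_tr
      rw [tr_pow, ← hσ, ← map_pow, ← map_ofNat σ 4]
      exact fun h => htr (σ.injective h)
    have h7' : X θ (1 : MulChar F ℂ) ((γ : SL) ^ p ^ i) =
        -((θ (γ ^ p ^ i) : ℂ) + (((θ (γ ^ p ^ i))⁻¹ : ℂˣ) : ℂ)) :=
      X_ell hg θ 1 (γ ^ p ^ i).2 h7
    have h8' : X θ (1 : MulChar F ℂ) (γ : SL) = -((θ γ : ℂ) + (((θ γ)⁻¹ : ℂˣ) : ℂ)) :=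
      X_ell hg θ 1 γ.2 hNS
    rw [hχX, hχX, h8', h7', neg_inj, map_pow] at h6
    exact dvd_of_add_inv hp h4 h6

open Cfsg.Agent.H670.RankOne (psi) in
open Cfsg.Agent.H670.SL2 in
/-- The characters of degree `(q ± 1) / 2` separate the two classes of transvections. -/
theorem x_ne [DecidableEq F] {nu : F} (hnu : ¬ IsSquare nu) {h : ℕ}
    (hq : Fintype.card F = 2 * h + 1) (hh : 1 < h) (χ : IrrCharacter SL)
    (hd : (χ : SL → ℂ) 1 = (h : ℕ) ∨ (χ : SL → ℂ) 1 = ((h + 1 : ℕ) : ℂ)) :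
    (χ : SL → ℂ) (x nu) ≠ (χ : SL → ℂ) (x 1) := by
  have hnu0 : nu ≠ 0 := by rintro rfl; exact hnu IsSquare.zero
  have hne : (ty nu χ).2.1 ≠ (ty nu χ).2.2 := by
    have h1 := degree_eq_ty hnu χ hq
    have h2 : h = (ty nu χ).1 + h * ((ty nu χ).2.1 + (ty nu χ).2.2) ∨
        h + 1 = (ty nu χ).1 + h * ((ty nu χ).2.1 + (ty nu χ).2.2) := by
      rcases hd with hd | hd
      · left; rw [hd] at h1; exact_mod_cast h1
      · right; rw [hd] at h1; exact_mod_cast h1
    have h3 := ty_mem hnu χ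
    simp only [tys, Finset.mem_insert, Finset.mem_singleton] at h3
    rcases h3 with h4 | h4 | h4 | h4 | h4 | h4 | h4 | h4 <;> rw [h4] at h2 ⊢ <;> simp only at h2 ⊢ <;>
      (clear * - hh h2; omega)
  have hgs : gs F ≠ 0 := by
    intro h0
    have h1 := gs_sq (F := F) (char_ne_two hnu)
    rw [h0] at h1
    have h2 : ((-1 : ℂ) ^ ((Fintype.card F - 1) / 2) * (Fintype.card F : ℂ)) ≠ 0 := by
      apply mul_ne_zero
      · exact pow_ne_zero _ (by norm_num)
      · exact Nat.cast_ne_zero.2 Fintype.card_ne_zero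
    apply h2
    rw [← h1]
    norm_num
  have hs1 : ∑ c : F, sg F c * psi F (1 * c) = gs F := by
    rw [gs_eq]
    simp only [one_mul]
  have hs2 : ∑ c : F, sg F c * psi F (nu * c) = - gs F := by
    rw [gs_eq, ← Finset.sum_neg_distrib,
      ← Equiv.sum_comp (Equiv.mulLeft₀ nu hnu0) (fun c => -(sg F c * psi F c))]
    refine Finset.sum_congr rfl fun c _ => ?_
    change _ = -(sg F (nu * c) * psi F (nu * c))
    rw [map_mul (sg F), sg_of_not_square hnu]
    ring
  rw [apply_x hnu χ nu, apply_x hnu χ 1, if_neg hnu0, if_neg one_ne_zero, hs1, hs2]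
  intro h0
  have h1 : (((ty nu χ).2.1 : ℂ) - (ty nu χ).2.2) * gs F = 0 := by
    have h2 : ((ty nu χ).2.1 : ℂ) = ((data F).n χ 1 : ℂ) := rfl
    have h3 : ((ty nu χ).2.2 : ℂ) = ((data F).n χ nu : ℂ) := rfl
    rw [h2, h3]
    linear_combination -h0
  rcases mul_eq_zero.1 h1 with h2 | h2
  · apply hne
    exact_mod_cast sub_eq_zero.1 h2
  · exact hgs h2

/-- A character of degree `(q ± 1) / 2` of `PSL₂(q)` is moved by the diagonal automorphisms. -/
theorem not_inv_of_not_square {h : ℕ} (hq : Fintype.card F = 2 * h + 1) (hh : 1 < h) {θ : PSL → ℂ}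
    (hθ : IsIrrCharacter PSL θ) (hd : charDegree θ = h ∨ charDegree θ = h + 1)
    {A : GL (Fin 2) F} (hA : ¬ IsSquare (A : M₂).det) :
    ¬ ∀ s, θ ((lift (cj A) : MulAut PSL) s) = θ s := by
  classical
  intro hinv
  set nu : F := (A : M₂).det with hnudef
  have hnu0 : nu ≠ 0 := by rintro h0; exact hA (h0 ▸ IsSquare.zero)
  have hirr : IsIrrCharacter SL (θ ∘ pr) := isIrr_comp pr pr_surjective hθ
  let χ : IrrCharacter SL := ⟨θ ∘ pr, hirr⟩
  have hχ1 : (χ : SL → ℂ) 1 = (charDegree θ : ℂ) := by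
    change θ (pr 1) = _
    rw [map_one, irr_one_eq_charDegree hθ]
  apply x_ne hA hq hh χ (by
    rcases hd with hd | hd
    · left; rw [hχ1, hd]
    · right; rw [hχ1, hd])
  -- the diagonal matrix
  let D : GL (Fin 2) F := Matrix.GeneralLinearGroup.mk' !![nu, 0; 0, 1] (invertibleOfNonzero (by
    rw [Matrix.det_fin_two_of]; simpa using hnu0))
  have hD : (D : M₂) = !![nu, 0; 0, 1] := rfl
  have hdet : ((A * D⁻¹ : GL (Fin 2) F) : M₂).det = 1 := by
    have h1 : (A * D⁻¹ : GL (Fin 2) F) * D = A := inv_mul_cancel_right A D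
    have h2 := congrArg (fun B : GL (Fin 2) F => (B : M₂).det) h1
    simp only [Units.val_mul, Matrix.det_mul] at h2 ⊢
    rw [hD, Matrix.det_fin_two_of] at h2
    have h3 : (nu * 1 - 0 * 0 : F) = nu := by ring
    rw [h3] at h2
    exact mul_right_cancel₀ hnu0 (h2.trans (one_mul nu).symm)
  let B : SL := ⟨((A * D⁻¹ : GL (Fin 2) F) : M₂), hdet⟩
  have hB : (B : GL (Fin 2) F) = A * D⁻¹ := Units.ext rfl
  have hAB : A = (B : GL (Fin 2) F) * D := by rw [hB, inv_mul_cancel_right]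
  have hDx : cj D (Cfsg.Agent.H670.SL2.x 1) = Cfsg.Agent.H670.SL2.x nu := by
    apply Subtype.ext
    rw [coe_cj]
    have h1 : (D : M₂) * (Cfsg.Agent.H670.SL2.x (1 : F) : M₂) = (Cfsg.Agent.H670.SL2.x nu : M₂) * (D : M₂) := by
      rw [hD, Cfsg.Agent.H670.SL2.coe_x, Cfsg.Agent.H670.SL2.coe_x]
      ext i j
      (revert i j; simp only [Matrix.mul_apply, _root_.Fin.forall_fin_succ, _root_.Matrix.of_apply, _root_.Matrix.cons_val', _root_.Matrix.cons_val_fin_one, _root_.Fin.sum_univ_two, Fin.isValue, _root_.Matrix.cons_val_zero, _root_.Matrix.cons_val_one, _root_.mul_one, _root_.MulZeroClass.mul_zero, _root_.add_zero, _root_.Matrix.cons_val_succ, _root_.zero_add, _root_.forall_const, _root_.one_mul, _root_.and_self, _root_.MulZeroClass.zero_mul, _root_.implies_true])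
    rw [h1, Matrix.mul_assoc, ← Units.val_mul, mul_inv_cancel, Units.val_one, Matrix.mul_one]
  have h1 := hinv (pr (Cfsg.Agent.H670.SL2.x 1))
  rw [lift_pr, hAB, map_mul, MulAut.mul_apply, hDx, L2Aut.cj_sl, MulAut.conj_apply, map_mul, map_mul,
    map_inv, isIrr_isClassFunction hθ] at h1
  exact h1

/-- There are at most two characters of degree `(q ± 1) / 2`. -/
theorem eq_of_ne {m : ℕ} (hq : Fintype.card F = 2 * m + 1) (hm : 1 < m) {d : ℕ} (hd : d = m ∨ d = m + 1)
    {θ θ₁ θ₂ : PSL → ℂ} (hθ : IsIrrCharacter PSL θ) (hθ₁ : IsIrrCharacter PSL θ₁)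
    (hθ₂ : IsIrrCharacter PSL θ₂) (hd0 : charDegree θ = d) (hd1 : charDegree θ₁ = d)
    (hd2 : charDegree θ₂ = d) (h1 : θ₁ ≠ θ) (h2 : θ₂ ≠ θ) : θ₁ = θ₂ := by
  classical
  have hcount : Nat.card {χ : Cfsg.IrrCharacter SL // (χ : SL → ℂ) 1 = ((d : ℕ) : ℂ)} = 2 := by
    obtain ⟨-, h⟩ := Cfsg.Agent.S2299.result (F := F) (by rw [hq]; exact ⟨m, rfl⟩)
    obtain ⟨-, -, -, -, ha, hb⟩ := h (by omega)
    rcases hd with rfl | rfl
    · have e1 : (Fintype.card F - 1) / 2 = d := by omega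
      rw [e1] at hb
      exact hb
    · have e1 : (Fintype.card F + 1) / 2 = m + 1 := by omega
      rw [e1] at ha
      exact ha
  let mk : ∀ {ψ : PSL → ℂ}, IsIrrCharacter PSL ψ → charDegree ψ = d →
      {χ : Cfsg.IrrCharacter SL // (χ : SL → ℂ) 1 = ((d : ℕ) : ℂ)} := fun {ψ} hψ hψd =>
    ⟨⟨ψ ∘ pr, isIrr_comp pr pr_surjective hψ⟩, by
      change ψ (pr 1) = _
      rw [map_one, irr_one_eq_charDegree hψ, hψd]⟩
  have hmk : ∀ {ψ ψ' : PSL → ℂ} (hψ : IsIrrCharacter PSL ψ) (hψ' : IsIrrCharacter PSL ψ')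
      (h : charDegree ψ = d) (h' : charDegree ψ' = d), mk hψ h = mk hψ' h' → ψ = ψ' := by
    intro ψ ψ' hψ hψ' h h' he
    have h3 : ψ ∘ (pr : SL →* PSL) = ψ' ∘ pr := congrArg (fun z => ((z.1 : IrrCharacter SL) : SL → ℂ)) he
    funext s
    obtain ⟨g, rfl⟩ := pr_surjective s
    exact congrFun h3 g
  rw [Nat.card_eq_two_iff] at hcount
  obtain ⟨a, b, hab, huniv⟩ := hcount
  have hin : ∀ z, z = a ∨ z = b := by
    intro z
    have : z ∈ ({a, b} : Set _) := huniv ▸ Set.mem_univ z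
    simpa using this
  by_contra hne
  have e0 := hin (mk hθ hd0)
  have e1 := hin (mk hθ₁ hd1)
  have e2 := hin (mk hθ₂ hd2)
  have k1 : mk hθ₁ hd1 ≠ mk hθ hd0 := fun he => h1 (hmk hθ₁ hθ hd1 hd0 he)
  have k2 : mk hθ₂ hd2 ≠ mk hθ hd0 := fun he => h2 (hmk hθ₂ hθ hd2 hd0 he)
  have k3 : mk hθ₁ hd1 ≠ mk hθ₂ hd2 := fun he => hne (hmk hθ₁ hθ₂ hd1 hd2 he)
  rcases e0 with e0 | e0 <;> rcases e1 with e1 | e1 <;> rcases e2 with e2 | e2
  · exact k1 (e1.trans e0.symm)
  · exact k1 (e1.trans e0.symm)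
  · exact k2 (e2.trans e0.symm)
  · exact k3 (e1.trans e2.symm)
  · exact k3 (e1.trans e2.symm)
  · exact k2 (e2.trans e0.symm)
  · exact k1 (e1.trans e0.symm)
  · exact k1 (e1.trans e0.symm)

/-- Existence of a character of the odd degree `(q ± 1) / 2`. -/
theorem exists_half {m : ℕ} (hq : Fintype.card F = 2 * m + 1) (hm : 1 < m) {d : ℕ}
    (hd : d = m ∨ d = m + 1) (hodd : Odd d) :
    ∃ θ : PSL → ℂ, IsIrrCharacter PSL θ ∧ charDegree θ = d := by
  classical
  have hcount : Nat.card {χ : Cfsg.IrrCharacter SL // (χ : SL → ℂ) 1 = ((d : ℕ) : ℂ)} = 2 := by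
    obtain ⟨-, h⟩ := Cfsg.Agent.S2299.result (F := F) (by rw [hq]; exact ⟨m, rfl⟩)
    obtain ⟨-, -, -, -, ha, hb⟩ := h (by omega)
    rcases hd with rfl | rfl
    · have e1 : (Fintype.card F - 1) / 2 = d := by omega
      rw [e1] at hb
      exact hb
    · have e1 : (Fintype.card F + 1) / 2 = m + 1 := by omega
      rw [e1] at ha
      exact ha
  rw [Nat.card_eq_two_iff] at hcount
  obtain ⟨⟨⟨χ, hχ⟩, hχd⟩, -⟩ := hcount
  change χ 1 = _ at hχd
  have hz := Cfsg.Agent.H663.GmnPsl.one_of_odd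
    (Cfsg.Agent.H663.GmnPsl.perfect (F := F) (by omega)) hχ hχd hodd (z := z0) z0_comm z0_mul_self
  obtain ⟨θ, hθ, hθχ⟩ := exists_descent hχ hz
  refine ⟨θ, hθ, ?_⟩
  apply charDegree_of_eq
  rw [← hχd, ← hθχ 1, map_one]

end

end Cfsg.Agent.H597.L2Char
end

-- part: H579/RR/Psl2Real
section
prune_inst 0x4010000
set_option linter.all false
open scoped Cfsg.Agent.FastGrp

/-!
# Real characters of `PSL₂(F)` (S4554, helper579)
-/

set_option autoImplicit false
set_option linter.unusedSectionVars false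

namespace Cfsg.Agent.H579.RR

open Matrix Cfsg Cfsg.Agent.Characters.Core Cfsg.Agent.H984.SLTwo Cfsg.Agent.H597.L2Char
open Cfsg.Agent.Blocks.Basic (charDegree_of_eq irr_one_eq_charDegree charDegree_pos)
open Cfsg.Agent.ClassicalGeometry.AutPSL.Root (pr pr_surjective pr_eq_one_iff)
open Cfsg.Agent.ClassicalGeometry.AutPSL.Auto (cj fld lift lift_pr coe_cj coe_fld_apply)

variable {F : Type*} [Field F] [Fintype F]

local notation "PSL" => Matrix.ProjectiveSpecialLinearGroup (Fin 2) F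
local notation "SL" => Matrix.SpecialLinearGroup (Fin 2) F
local notation "M₂" => Matrix (Fin 2) (Fin 2) F

theorem tr_inv (g : SL) : tr ((g⁻¹ : SL) : M₂) = tr (g : M₂) := by
  rw [Matrix.SpecialLinearGroup.coe_inv, Matrix.adjugate_fin_two]
  unfold tr
  simp [add_comm]

theorem NS_inv {g : SL} (h : NS (g : M₂)) : NS ((g⁻¹ : SL) : M₂) := by
  rw [Matrix.SpecialLinearGroup.coe_inv, Matrix.adjugate_fin_two]
  unfold NS at h ⊢
  simp only [Matrix.of_apply, Matrix.cons_val', Matrix.cons_val_zero,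
      Matrix.cons_val_one, Matrix.cons_val_fin_one, ne_eq, neg_eq_zero]
  rcases h with h | h | h
  · exact Or.inl h
  · exact Or.inr (Or.inl h)
  · exact Or.inr (Or.inr fun h' => h h'.symm)

theorem inv_of_not_NS [DecidableEq F] {g : SL} (h : ¬ NS (g : M₂)) : g⁻¹ = g := by
  rcases scalar_cases h with h | h
  · rw [h, upp_one_zero, inv_one]
  · rw [inv_eq_iff_mul_eq_one, h]
    exact z0_mul_self

/-- the cases for a nonscalar element -/
theorem conj_cases [DecidableEq F] {g : SL} (hg : NS (g : M₂)) : IsConj g g⁻¹ ∨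
    (ringChar F ≠ 2 ∧ ∃ u : Fˣ, u⁻¹ = u ∧ ∃ b c : F, b ≠ 0 ∧ c ≠ 0 ∧ IsConj g (upp u b) ∧ IsConj g⁻¹ (upp u c)) := by
  by_cases h2 : ringChar F = 2
  · exact Or.inl (isConj_of_tr hg (NS_inv hg) (tr_inv g).symm (Or.inl h2))
  by_cases h4 : tr (g : M₂) ^ 2 = 4
  · right
    refine ⟨h2, ?_⟩
    have hcase : tr (g : M₂) = 2 * ((1 : Fˣ) : F) ∨ tr (g : M₂) = 2 * ((-1 : Fˣ) : F) := by
      have h5 : (tr (g : M₂) - 2) * (tr (g : M₂) + 2) = 0 := by linear_combination h4
      rcases mul_eq_zero.1 h5 with h | h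
      · left
        rw [Units.val_one]
        linear_combination h
      · right
        rw [Units.val_neg, Units.val_one]
        linear_combination h
    rcases hcase with h | h
    · obtain ⟨b, hb, hc⟩ := exists_conj_upp' inv_one hg h
      obtain ⟨c, hc', hd⟩ := exists_conj_upp' inv_one (NS_inv hg) ((tr_inv g).trans h)
      exact ⟨1, inv_one, b, c, hb, hc', hc, hd⟩
    · obtain ⟨b, hb, hc⟩ := exists_conj_upp' neg_one_inv hg h
      obtain ⟨c, hc', hd⟩ := exists_conj_upp' neg_one_inv (NS_inv hg) ((tr_inv g).trans h)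
      exact ⟨-1, neg_one_inv, b, c, hb, hc', hc, hd⟩
  · exact Or.inl (isConj_of_tr hg (NS_inv hg) (tr_inv g).symm (Or.inr h4))

theorem eq_of_isConj {G : Type*} [Group G] {χ : G → ℂ} (hcl : IsClassFunction G χ) {a b : G} (h : IsConj a b) :
    χ a = χ b := by
  obtain ⟨c, rfl⟩ := isConj_iff.1 h
  exact (hcl a c).symm

theorem real_of_upp [DecidableEq F] {χ : SL → ℂ} (hcl : IsClassFunction SL χ)
    (h : ∀ u : Fˣ, u⁻¹ = u → ∀ b c : F, b ≠ 0 → c ≠ 0 → χ (upp u b) = χ (upp u c)) (g : SL) : χ g⁻¹ = χ g := by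
  by_cases hg : NS (g : M₂)
  · rcases conj_cases hg with h1 | ⟨-, u, hu, b, c, hb, hc, h1, h2⟩
    · exact (eq_of_isConj hcl h1).symm
    · rw [eq_of_isConj hcl h1, eq_of_isConj hcl h2]
      exact h u hu c b hc hb
  · rw [inv_of_not_NS hg]

theorem upp_inv [DecidableEq F] {u : Fˣ} (hu : u⁻¹ = u) (b : F) : (upp u b : SL)⁻¹ = upp u (-b) := by
  rw [inv_eq_iff_mul_eq_one]
  have huu : (u : F) * u = 1 := by
    have := mul_inv_cancel u
    rw [hu] at this
    rw [← Units.val_mul, this, Units.val_one]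
  apply Matrix.SpecialLinearGroup.ext
  intro i j
  rw [Matrix.SpecialLinearGroup.coe_mul, coe_upp, coe_upp, hu]
  fin_cases i <;> fin_cases j <;> simp [Matrix.mul_apply, huu]
  ring

/-- All elements are real if `-1` is a square. -/
theorem isConj_inv_of_sq [DecidableEq F] (hsq : IsSquare (-1 : F)) (g : SL) : IsConj g g⁻¹ := by
  by_cases hg : NS (g : M₂)
  · rcases conj_cases hg with h1 | ⟨-, u, hu, b, c, hb, hc, h1, h2⟩
    · exact h1
    · have h3 : IsConj (upp u b : SL) (upp u b)⁻¹ := by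
        rw [upp_inv hu, isConj_upp_iff' hu hb (neg_ne_zero.2 hb)]
        obtain ⟨a, ha⟩ := hsq
        exact ⟨a * b, by linear_combination b * b * ha⟩
      obtain ⟨x, hx⟩ := isConj_iff.1 h1
      refine h1.trans (h3.trans ?_)
      rw [← hx]
      refine isConj_iff.2 ⟨x⁻¹, by group⟩
  · rw [inv_of_not_NS hg]

theorem real_psl_of_conj {θ : PSL → ℂ} (hθ : IsClassFunction PSL θ) (h : ∀ g : SL, IsConj g g⁻¹) (s : PSL) :
    θ s⁻¹ = θ s := by
  obtain ⟨g, rfl⟩ := pr_surjective s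
  obtain ⟨x, hx⟩ := isConj_iff.1 (h g)
  rw [← map_inv, ← hx, map_mul, map_mul, map_inv]
  exact hθ _ _

theorem im_of_inv {G : Type*} [Group G] [Finite G] {χ : G → ℂ} (hχ : IsIrrCharacter G χ) (h : ∀ g, χ g⁻¹ = χ g)
    (g : G) : (χ g).im = 0 := by
  have h1 := h g
  rw [isCharacter_apply_inv (isIrr_isCharacter hχ)] at h1
  exact Complex.conj_eq_iff_im.1 h1

end Cfsg.Agent.H579.RR
end
end
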